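import Groth.Agent.FEtSepLib.Main

/-! # Covers of the base changes of a scheme along algebras -/

set_option autoImplicit false
set_option linter.style.haveILetI false

universe u

open CategoryTheory CategoryTheory.Limits AlgebraicGeometry

noncomputable section

namespace FEtProper

/-- A finite étale cover of a limit is defined at some stage. -/
theorem exists_stage {I : Type u} [SmallCategory I] [IsCofiltered I] {D : I ⥤ Scheme.{u}} {c : Cone D} (hc : IsLimit c)
    [∀ (i j : I) (f : i ⟶ j), IsAffineHom (D.map f)] [∀ i, CompactSpace (D.obj i)] [∀ i, QuasiSeparatedSpace (D.obj i)]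
    {Y : Scheme.{u}} (g : Y ⟶ c.pt) [IsFinite g] [Etale g] :
    ∃ (i : I) (Xi : Scheme.{u}) (fi : Xi ⟶ D.obj i) (q : Y ⟶ Xi),
      IsPullback q g fi (c.π.app i) ∧ IsFinite fi ∧ Etale fi := by
  obtain ⟨i₀, X₀, f₀, q₀, h1, h2, h3, hq₀⟩ := Groth.Agent.S0591.result D c hc Y g
  have hid : ∀ i : I, IsPullback (c.π.app i) (𝟙 c.pt) (𝟙 (D.obj i)) (c.π.app i) := fun i =>
    IsPullback.id_vert (c.π.app i)
  haveI : CompactSpace X₀ := QuasiCompact.compactSpace_of_compactSpace f₀
  haveI : QuasiSeparatedSpace X₀ := quasiSeparatedSpace_of_quasiSeparated f₀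
  obtain ⟨i₁, φ₁, X₁, f₁, q₁, p₁, hq₁, hs₁, hf₁⟩ := Groth.Agent.FEtSep.refine_step (P := @IsFinite) hq₀
    (Groth.Agent.S9187.result D c hc i₀ f₀ (𝟙 _) g (𝟙 _) (c.π.app i₀) q₀ (hid i₀) hq₀)
  haveI : LocallyOfFinitePresentation f₁ := MorphismProperty.of_isPullback hs₁ h1
  haveI : CompactSpace X₁ := QuasiCompact.compactSpace_of_compactSpace f₁
  haveI : QuasiSeparatedSpace X₁ := quasiSeparatedSpace_of_quasiSeparated f₁
  obtain ⟨i₂, φ₂, X₂, f₂, q₂, p₂, hq₂, hs₂, hf₂⟩ := Groth.Agent.FEtSep.refine_step (P := @Etale) hq₁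
    (Groth.Agent.S9192.result D c hc i₁ f₁ (𝟙 _) g (𝟙 _) (c.π.app i₁) q₁ (hid i₁) hq₁)
  exact ⟨i₂, X₂, f₂, q₂, hq₂, MorphismProperty.of_isPullback hs₂ hf₁, hf₂⟩

variable (P : Type u) [CommRing P] {X : Scheme.{u}} (f : X ⟶ Spec (CommRingCat.of P))

/-- The structure morphism of the spectrum of an algebra. -/
abbrev spR (R : Type u) [CommRing R] [Algebra P R] : Spec (CommRingCat.of R) ⟶ Spec (CommRingCat.of P) :=
  Spec.map (CommRingCat.ofHom (algebraMap P R))

variable {P} {R R' R'' : Type u} [CommRing R] [CommRing R'] [CommRing R''] [Algebra P R] [Algebra P R'] [Algebra P R'']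

theorem spec_comp (φ : R →ₐ[P] R') : Spec.map (CommRingCat.ofHom φ.toRingHom) ≫ spR P R = spR P R' := by
  rw [← Spec.map_comp, ← CommRingCat.ofHom_comp]
  exact congrArg (fun r => Spec.map (CommRingCat.ofHom r)) φ.comp_algebraMap

/-- The map of base changes given by a map of algebras. -/
def bc (φ : R →ₐ[P] R') : pullback f (spR P R') ⟶ pullback f (spR P R) :=
  pullback.lift (pullback.fst _ _) (pullback.snd _ _ ≫ Spec.map (CommRingCat.ofHom φ.toRingHom))
    (by rw [Category.assoc, spec_comp]; exact pullback.condition)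

@[reassoc]
theorem bc_fst (φ : R →ₐ[P] R') : bc f φ ≫ pullback.fst _ _ = pullback.fst _ _ := pullback.lift_fst _ _ _

@[reassoc]
theorem bc_snd (φ : R →ₐ[P] R') :
    bc f φ ≫ pullback.snd _ _ = pullback.snd _ _ ≫ Spec.map (CommRingCat.ofHom φ.toRingHom) :=
  pullback.lift_snd _ _ _

theorem bc_comp (φ : R →ₐ[P] R') (ψ : R' →ₐ[P] R'') : bc f (ψ.comp φ) = bc f ψ ≫ bc f φ := by
  apply pullback.hom_ext
  · rw [Category.assoc, bc_fst, bc_fst, bc_fst]
  · rw [Category.assoc, bc_snd, bc_snd, bc_snd_assoc, ← Spec.map_comp]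
    rfl

theorem isPullback_bc (φ : R →ₐ[P] R') : IsPullback (bc f φ) (pullback.snd f (spR P R'))
    (pullback.snd f (spR P R)) (Spec.map (CommRingCat.ofHom φ.toRingHom)) := by
  refine IsPullback.of_right ?_ (bc_snd f φ) (IsPullback.of_hasPullback f (spR P R))
  rw [bc_fst, spec_comp]
  exact IsPullback.of_hasPullback f (spR P R')

/-- `w'` is the base change of `w` along the map of algebras `φ`. -/
def Pb (φ : R →ₐ[P] R') {W W' : Scheme.{u}} (w : W ⟶ pullback f (spR P R)) (w' : W' ⟶ pullback f (spR P R')) : Prop :=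
  ∃ q : W' ⟶ W, IsPullback q w' w (bc f φ)

variable {f} {W W' W'' : Scheme.{u}} {w : W ⟶ pullback f (spR P R)} {w' : W' ⟶ pullback f (spR P R')}
  {w'' : W'' ⟶ pullback f (spR P R'')}

theorem Pb.exists_pb (φ : R →ₐ[P] R') (w : W ⟶ pullback f (spR P R)) :
    ∃ (W' : Scheme.{u}) (w' : W' ⟶ pullback f (spR P R')), Pb f φ w w' :=
  ⟨_, pullback.snd w (bc f φ), pullback.fst _ _, IsPullback.of_hasPullback _ _⟩

theorem Pb.comp {φ : R →ₐ[P] R'} {ψ : R' →ₐ[P] R''} (h : Pb f φ w w') (h' : Pb f ψ w' w'') :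
    Pb f (ψ.comp φ) w w'' := by
  obtain ⟨q, hq⟩ := h
  obtain ⟨q', hq'⟩ := h'
  exact ⟨q' ≫ q, by rw [bc_comp]; exact hq'.paste_horiz hq⟩

theorem Pb.cancel {φ : R →ₐ[P] R'} {ψ : R' →ₐ[P] R''} (h : Pb f φ w w') (h' : Pb f (ψ.comp φ) w w'') :
    Pb f ψ w' w'' := by
  obtain ⟨q, hq⟩ := h
  obtain ⟨q', hq'⟩ := h'
  rw [bc_comp] at hq'
  refine ⟨hq.lift q' (w'' ≫ bc f ψ) (by rw [hq'.w, Category.assoc]), IsPullback.of_right ?_ (hq.lift_snd _ _ _) hq⟩
  rw [hq.lift_fst]
  exact hq'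

theorem Pb.congr {φ φ' : R →ₐ[P] R'} (h : Pb f φ w w') (e : ∀ x, φ x = φ' x) : Pb f φ' w w' := by
  obtain rfl : φ = φ' := AlgHom.ext e
  exact h

theorem Pb.isFinite {φ : R →ₐ[P] R'} (h : Pb f φ w w') [IsFinite w] : IsFinite w' := by
  obtain ⟨q, hq⟩ := h
  exact MorphismProperty.of_isPullback hq ‹_›

theorem Pb.etale {φ : R →ₐ[P] R'} (h : Pb f φ w w') [Etale w] : Etale w' := by
  obtain ⟨q, hq⟩ := h
  exact MorphismProperty.of_isPullback hq ‹_›

/-- A finite étale cover of a base change is defined over a finitely generated subalgebra. -/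
theorem exists_fg_model [QuasiCompact f] [QuasiSeparated f] (K : Type u) [CommRing K] [Algebra P K]
    {V : Scheme.{u}} (v : V ⟶ pullback f (spR P K)) [IsFinite v] [Etale v] :
    ∃ (D : Subalgebra P K) (_ : D.FG) (W : Scheme.{u}) (w : W ⟶ pullback f (spR P D)),
      IsFinite w ∧ Etale w ∧ Pb f D.val w v := by
  let A := ConsLib.fgSys P K (Iso.refl (Spec (CommRingCat.of P)))
  let B := RichLib.LimBC.pb A f
  haveI : CompactSpace X := QuasiCompact.compactSpace_of_compactSpace f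
  haveI : QuasiSeparatedSpace X := quasiSeparatedSpace_of_quasiSeparated f
  haveI : ∀ i j (b : i ⟶ j), IsAffineHom (B.D.map b) := fun _ _ b => B.affine_map b
  haveI : ∀ i, CompactSpace (B.D.obj i) := fun i => B.compactSpace_obj i
  haveI : ∀ i, QuasiSeparatedSpace (B.D.obj i) := fun i => B.quasiSeparatedSpace_obj i
  let e0 : pullback f (spR P K) ≅ B.c.pt := (pullback.congrHom rfl (Category.comp_id _)).symm
  obtain ⟨i, Xi, fi, q, hq, hfin, het⟩ := exists_stage B.hc (v ≫ e0.hom)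
  let τ : pullback f (spR P i.unop.1) ≅ B.D.obj i :=
    pullback.congrHom rfl (show spR P i.unop.1 = A.t i from (Category.comp_id _).symm)
  have t1 : τ.inv ≫ pullback.fst _ _ = pullback.fst f (A.t i) := by
    rw [Iso.inv_comp_eq]; exact ((pullback.lift_fst _ _ _).trans (Category.comp_id _)).symm
  have t2 : τ.inv ≫ pullback.snd _ _ = pullback.snd f (A.t i) := by
    rw [Iso.inv_comp_eq]; exact ((pullback.lift_snd _ _ _).trans (Category.comp_id _)).symm
  have u1 : e0.hom ≫ pullback.fst f A.s = pullback.fst f _ := by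
    show (pullback.congrHom rfl (Category.comp_id _)).inv ≫ _ = _
    rw [Iso.inv_comp_eq]; exact ((pullback.lift_fst _ _ _).trans (Category.comp_id _)).symm
  have u2 : e0.hom ≫ pullback.snd f A.s = pullback.snd f _ := by
    show (pullback.congrHom rfl (Category.comp_id _)).inv ≫ _ = _
    rw [Iso.inv_comp_eq]; exact ((pullback.lift_snd _ _ _).trans (Category.comp_id _)).symm
  have hb : e0.hom ≫ B.c.π.app i ≫ τ.inv = bc f i.unop.1.val := by
    apply pullback.hom_ext
    · rw [bc_fst, Category.assoc, Category.assoc, t1]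
      exact (congrArg (e0.hom ≫ ·) (RichLib.LimBC.pbπ_fst A f i)).trans u1
    · rw [bc_snd, Category.assoc, Category.assoc, t2]
      refine (congrArg (e0.hom ≫ ·) (RichLib.LimBC.pbπ_snd A f i)).trans ?_
      exact ((Category.assoc _ _ _).symm.trans (congrArg (· ≫ A.c.π.app i) u2))
  refine ⟨i.unop.1, i.unop.2, Xi, fi ≫ τ.inv, (MorphismProperty.cancel_right_of_respectsIso @IsFinite fi τ.inv).2 hfin,
    (MorphismProperty.cancel_right_of_respectsIso @Etale fi τ.inv).2 het, q, ?_⟩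
  rw [← hb]
  exact hq.of_iso (Iso.refl _) (Iso.refl _) e0.symm τ.symm (by simp) (by simp) (by simp) (by simp)

end FEtProper

end
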