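import Groth.Agent.FEtProperLib.Core
import Groth.Agent.HensColimLib.Stage
import Groth.Agent.RelAmpConsLib.Proper
import Groth.Agent.S2079
import Groth.Agent.ClopenFFLib.Basic
import Groth.Agent.ProperClopenLib.HenselGeneral

/-! # Finite étale covers of proper schemes over henselian pairs -/

set_option autoImplicit false
set_option linter.style.haveILetI false
set_option maxHeartbeats 1000000

universe u

open CategoryTheory CategoryTheory.Limits AlgebraicGeometry RichLib.LimBC

noncomputable section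

namespace FEtProper

theorem Pb.unique {P : Type u} [CommRing P] {X : Scheme.{u}} {f : X ⟶ Spec (CommRingCat.of P)}
    {R R' S : Type u} [CommRing R] [CommRing R'] [CommRing S] [Algebra P R] [Algebra P R'] [Algebra P S]
    {φ : R →ₐ[P] R'} {ψ : S →ₐ[P] R'} {W W' W'' U : Scheme.{u}} {w : W ⟶ pullback f (spR P R)}
    {w' : W' ⟶ pullback f (spR P R')} {w'' : W'' ⟶ pullback f (spR P R')} {u : U ⟶ pullback f (spR P S)}
    (h' : Pb f φ w w') (h'' : Pb f φ w w'') (h : Pb f ψ u w') : Pb f ψ u w'' := by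
  obtain ⟨q', hq'⟩ := h'
  obtain ⟨q'', hq''⟩ := h''
  obtain ⟨q, hq⟩ := h
  refine ⟨(hq''.isoIsPullback _ _ hq').hom ≫ q, ?_⟩
  exact hq.of_iso (hq''.isoIsPullback _ _ hq').symm (Iso.refl _) (Iso.refl _) (Iso.refl _) (by simp)
    (by rw [Iso.refl_hom, Category.comp_id, Iso.symm_hom, IsPullback.isoIsPullback_inv_snd]) (by simp) (by simp)

theorem exists_proper_model {A : Type u} [CommRing A] {X : Scheme.{u}} (f : X ⟶ Spec (CommRingCat.of A))
    [IsProper f] [LocallyOfFinitePresentation f] :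
    ∃ (P : Type u) (_ : CommRing P) (_ : Algebra P A) (X₀ : Scheme.{u}) (f₀ : X₀ ⟶ Spec (CommRingCat.of P)) (pX : X ⟶ X₀),
      CAlg.IsGRing P ∧ IsProper f₀ ∧ IsPullback pX f f₀ (spR P A) := by
  let S := ConsLib.zSys A
  haveI : ∀ i j (a : i ⟶ j), IsAffineHom (S.D.map a) := fun _ _ a => S.affine_map a
  haveI : ∀ i, AlgebraicGeometry.IsNoetherian (S.D.obj i) := fun i => ConsLib.zSys_obj _ i
  let f' : X ⟶ S.c.pt := f
  haveI : IsProper f' := ‹IsProper f›
  haveI : LocallyOfFinitePresentation f' := ‹LocallyOfFinitePresentation f›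
  obtain ⟨i, ⟨N⟩⟩ := DescFP.exists_model S.hc f'
  haveI := N.lfp
  haveI := N.qc
  haveI := N.compactSpace
  haveI := N.quasiSeparatedSpace
  haveI hlft : LocallyOfFiniteType N.p := inferInstance
  haveI : QuasiSeparated N.p := inferInstance
  let S' := ofStage S.D S.c S.hc i
  let eY := N.sq.isoPullback
  have hlim : AtLim S' N.p @IsProper := by
    show IsProper (pullback.snd N.p (S.c.π.app i))
    rw [← Iso.inv_hom_id_assoc eY (pullback.snd N.p (S.c.π.app i)), N.sq.isoPullback_hom_snd]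
    infer_instance
  haveI : CompactSpace (S.D.obj i) := inferInstance
  obtain ⟨φ, hφ⟩ := ConsLib.exists_at_isProper S' N.p hlim
  letI := ConsLib.zAlgebra A
  let P : Subalgebra (ULift.{u} ℤ) A := φ.left.unop.1
  haveI : Algebra.FiniteType (ULift.{u} ℤ) P := ⟨(Subalgebra.fg_top _).mpr φ.left.unop.2⟩
  have hw : S.c.π.app φ.left ≫ S.D.map φ.hom = S.c.π.app i := S.c.w φ.hom
  refine ⟨P, inferInstance, inferInstance, pullback N.p (S.D.map φ.hom), pullback.snd N.p (S.D.map φ.hom),
    pullback.lift (eY.hom ≫ pullback.fst _ _) (f ≫ S.c.π.app φ.left) ?_,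
    Groth.Agent.S0599.result (ULift.{u} ℤ) HensColimLib.isGRing_Zu P, hφ, ?_⟩
  · rw [N.sq.isoPullback_hom_fst]
    show _ = (f' ≫ S.c.π.app φ.left) ≫ S.D.map φ.hom
    rw [N.sq.w, Category.assoc, hw]
  · refine IsPullback.of_right ?_ (pullback.lift_snd _ _ _) (IsPullback.of_hasPullback N.p (S.D.map φ.hom))
    rw [pullback.lift_fst, N.sq.isoPullback_hom_fst]
    show IsPullback _ f' N.p (S.c.π.app φ.left ≫ S.D.map φ.hom)
    rw [hw]
    exact N.sq

theorem exists_lift_fp {A : Type u} [CommRing A] (I : Ideal A) [HenselianRing A I] {X : Scheme.{u}}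
    (f : X ⟶ Spec (CommRingCat.of A)) [IsProper f] [LocallyOfFinitePresentation f] {V : Scheme.{u}}
    (v : V ⟶ pullback f (Spec.map (CommRingCat.ofHom (Ideal.Quotient.mk I)))) [IsFinite v] [Etale v] :
    ∃ (U : Scheme.{u}) (u : U ⟶ X) (q : V ⟶ U), IsFinite u ∧ Etale u ∧
      IsPullback q v u (pullback.fst f (Spec.map (CommRingCat.ofHom (Ideal.Quotient.mk I)))) := by
  obtain ⟨P, _, _, X₀, f₀, pX, hP, _, hpX⟩ := exists_proper_model f
  let j : Spec (CommRingCat.of (A ⧸ I)) ⟶ Spec (CommRingCat.of A) := Spec.map (CommRingCat.ofHom (Ideal.Quotient.mk I))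
  have hj : j ≫ spR P A = spR P (A ⧸ I) := spec_comp (Ideal.Quotient.mkₐ P I)
  have hp0 : IsPullback (pullback.fst f j ≫ pX) (pullback.snd f j) f₀ (spR P (A ⧸ I)) := by
    rw [← hj]
    exact (IsPullback.of_hasPullback f j).paste_horiz hpX
  let c := hp0.isoPullback
  let e := hpX.isoPullback
  have hc : c.hom ≫ bc f₀ (Ideal.Quotient.mkₐ P I) = pullback.fst f j ≫ e.hom := by
    apply pullback.hom_ext
    · rw [Category.assoc, bc_fst, hp0.isoPullback_hom_fst, Category.assoc, hpX.isoPullback_hom_fst]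
    · rw [Category.assoc, bc_snd, ← Category.assoc, hp0.isoPullback_hom_snd, Category.assoc, hpX.isoPullback_hom_snd]
      exact pullback.condition.symm
  obtain ⟨D, hD, W, w, _, _, hw⟩ := exists_fg_model (f := f₀) (A ⧸ I) (v ≫ c.hom)
  obtain ⟨s, hs⟩ := hD
  let Q := MvPolynomial {b // b ∈ s} P
  choose a ha using fun b : {b // b ∈ s} => Ideal.Quotient.mk_surjective (I := I) b.1
  letI : Algebra Q A := (MvPolynomial.aeval (R := P) a).toRingHom.toAlgebra
  haveI : IsScalarTower P Q A := IsScalarTower.of_algebraMap_eq fun x => ((MvPolynomial.aeval (R := P) a).commutes x).symm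
  have hQ : CAlg.IsGRing Q := Groth.Agent.S0599.result P hP Q
  let J : Ideal Q := RingHom.ker (Algebra.ofId Q (A ⧸ I))
  let ψ : Q ⧸ J →ₐ[Q] A ⧸ I := Ideal.Quotient.liftₐ J (Algebra.ofId Q (A ⧸ I)) fun x hx => hx
  have hψ : Function.Injective (ψ.restrictScalars P) := by
    rw [injective_iff_map_eq_zero]
    intro x hx
    obtain ⟨x, rfl⟩ := Ideal.Quotient.mk_surjective x
    exact Ideal.Quotient.eq_zero_iff_mem.2 hx
  have hle : D ≤ (ψ.restrictScalars P).range := by
    rw [← hs]
    refine Algebra.adjoin_le fun b hb => ⟨Ideal.Quotient.mk J (MvPolynomial.X ⟨b, hb⟩), ?_⟩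
    show algebraMap Q (A ⧸ I) (MvPolynomial.X ⟨b, hb⟩) = b
    rw [IsScalarTower.algebraMap_apply Q A (A ⧸ I)]
    show Ideal.Quotient.mk I (MvPolynomial.aeval (R := P) a (MvPolynomial.X ⟨b, hb⟩)) = b
    rw [MvPolynomial.aeval_X]
    exact ha ⟨b, hb⟩
  let er := AlgEquiv.ofInjective (ψ.restrictScalars P) hψ
  let δ : D →ₐ[P] Q ⧸ J := er.symm.toAlgHom.comp (Subalgebra.inclusion hle)
  obtain ⟨W₁, w₁, hw₁⟩ := Pb.exists_pb (f := f₀) δ w
  haveI := hw₁.isFinite
  haveI := hw₁.etale
  have hv₁ : Pb f₀ (ψ.restrictScalars P) w₁ (v ≫ c.hom) :=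
    hw₁.cancel (hw.congr fun x => (congrArg Subtype.val (er.apply_symm_apply (Subalgebra.inclusion hle x))).symm)
  obtain ⟨U, V', u, x, _, _, hu, hx⟩ := exists_lift_of_gRing f₀ Q hQ J A I ψ w₁
  obtain ⟨q, hq⟩ := Pb.unique hx hv₁ hu
  haveI : IsFinite u := ‹_›
  haveI : Etale u := ‹_›
  refine ⟨U, u ≫ e.inv, q, inferInstance, inferInstance, ?_⟩
  refine hq.of_iso (Iso.refl _) (Iso.refl _) c.symm e.symm (by simp) (by simp) (by simp) ?_
  show bc f₀ (Ideal.Quotient.mkₐ P I) ≫ e.inv = c.inv ≫ pullback.fst f j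
  rw [← cancel_epi c.hom, reassoc_of% hc]
  simp

theorem exists_lift {A : Type u} [CommRing A] (I : Ideal A) [HenselianRing A I] {X : Scheme.{u}}
    (f : X ⟶ Spec (CommRingCat.of A)) [IsProper f] {V : Scheme.{u}}
    (v : V ⟶ pullback f (Spec.map (CommRingCat.ofHom (Ideal.Quotient.mk I)))) [IsFinite v] [Etale v] :
    ∃ (U : Scheme.{u}) (u : U ⟶ X) (q : V ⟶ U), IsFinite u ∧ Etale u ∧
      IsPullback q v u (pullback.fst f (Spec.map (CommRingCat.ofHom (Ideal.Quotient.mk I)))) := by
  let j : Spec (CommRingCat.of (A ⧸ I)) ⟶ Spec (CommRingCat.of A) := Spec.map (CommRingCat.ofHom (Ideal.Quotient.mk I))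
  obtain ⟨K, _, _, D, c, hc, e, hcl, hD⟩ := Groth.Agent.S2079.result f
  let G := CategoryTheory.Over.pullback j ⋙ CategoryTheory.Over.forget _
  let E := D ⋙ G
  haveI := IsCofiltered.isConnected K
  have hlim : IsLimit (G.mapCone c) := isLimitOfPreserves G hc
  have hmap : ∀ {T T' : Over (Spec (CommRingCat.of A))} (a : T ⟶ T'),
      IsPullback (G.map a) (pullback.fst T.hom j) (pullback.fst T'.hom j) a.left := fun {T T'} a => by
    let m : pullback T.hom j ⟶ pullback T'.hom j := G.map a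
    have hm1 : m ≫ pullback.fst T'.hom j = pullback.fst T.hom j ≫ a.left := pullback.lift_fst _ _ _
    have hm2 : m ≫ pullback.snd T'.hom j = pullback.snd T.hom j := pullback.lift_snd _ _ _
    show IsPullback m _ _ _
    refine IsPullback.of_right ?_ hm1 (IsPullback.of_hasPullback T'.hom j).flip
    rw [hm2, Over.w a]
    exact (IsPullback.of_hasPullback T.hom j).flip
  haveI : ∀ i i' (a : i ⟶ i'), IsAffineHom (E.map a) := fun i i' a => by
    haveI := hcl i i' a
    exact MorphismProperty.of_isPullback (hmap (D.map a)).flip (inferInstance : IsAffineHom (D.map a).left)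
  haveI : ∀ i, CompactSpace (E.obj i) := fun i => by
    haveI := (hD i).2.1
    show CompactSpace ↥(pullback (D.obj i).hom j)
    haveI : IsProper (pullback.snd (D.obj i).hom j) := MorphismProperty.pullback_snd _ _ ‹IsProper (D.obj i).hom›
    exact QuasiCompact.compactSpace_of_compactSpace (pullback.snd (D.obj i).hom j)
  haveI : ∀ i, QuasiSeparatedSpace (E.obj i) := fun i => by
    haveI := (hD i).2.1
    show QuasiSeparatedSpace ↥(pullback (D.obj i).hom j)
    haveI : IsProper (pullback.snd (D.obj i).hom j) := MorphismProperty.pullback_snd _ _ ‹IsProper (D.obj i).hom›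
    exact quasiSeparatedSpace_of_quasiSeparated (pullback.snd (D.obj i).hom j)
  let eG := G.mapIso e
  obtain ⟨i, Vi, vi, q, hq, hv1, hv2⟩ := exists_stage hlim (v ≫ eG.inv)
  obtain ⟨_, _, _⟩ := hD i
  let vi' : Vi ⟶ pullback (D.obj i).hom j := vi
  haveI : IsFinite vi' := hv1
  haveI : Etale vi' := hv2
  obtain ⟨Ui, ui, qi, _, _, hqi⟩ := exists_lift_fp I (D.obj i).hom vi'
  let π : X ⟶ (D.obj i).left := e.inv.left ≫ (c.π.app i).left
  haveI : IsFinite (pullback.snd ui π) := MorphismProperty.pullback_snd _ _ ‹IsFinite ui›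
  haveI : Etale (pullback.snd ui π) := MorphismProperty.pullback_snd _ _ ‹Etale ui›
  let b : pullback f j ⟶ pullback (D.obj i).hom j := G.map (e.inv ≫ c.π.app i)
  have hb : b ≫ pullback.fst (D.obj i).hom j = pullback.fst f j ≫ π := pullback.lift_fst _ _ _
  have hV : IsPullback (q ≫ qi) v ui (pullback.fst f j ≫ π) := by
    have hh : IsPullback q v vi' b := by
      have hπ : (G.mapCone c).π.app i = eG.hom ≫ G.map (e.inv ≫ c.π.app i) := by
        show G.map (c.π.app i) = G.map e.hom ≫ G.map (e.inv ≫ c.π.app i)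
        rw [← G.map_comp, Iso.hom_inv_id_assoc]
      refine hq.of_iso (Iso.refl _) (Iso.refl _) eG (Iso.refl _) (by simp) (by simp) ?_ ?_
      · exact (Category.comp_id _).trans (Category.id_comp _).symm
      · exact (Category.comp_id _).trans hπ
    rw [← hb]
    exact hh.paste_horiz hqi
  refine ⟨pullback ui π, pullback.snd ui π, pullback.lift (q ≫ qi) (v ≫ pullback.fst f j) (by rw [hV.w, Category.assoc]),
    inferInstance, inferInstance, ?_⟩
  refine IsPullback.of_right ?_ (pullback.lift_snd _ _ _) (IsPullback.of_hasPullback ui π)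
  rw [pullback.lift_fst]
  exact hV

theorem clopenBij {A : Type u} [CommRing A] (I : Ideal A) [HenselianRing A I] {X : Scheme.{u}}
    (f : X ⟶ Spec (CommRingCat.of A)) [IsProper f] :
    ClopenFFLib.ClopenBij (pullback.fst f (Spec.map (CommRingCat.ofHom (Ideal.Quotient.mk I)))) := by
  intro Y C'
  let j : Spec (CommRingCat.of (A ⧸ I)) ⟶ Spec (CommRingCat.of A) := Spec.map (CommRingCat.ofHom (Ideal.Quotient.mk I))
  haveI : IsClosedImmersion j := IsClosedImmersion.spec_of_surjective _ Ideal.Quotient.mk_surjective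
  let Yl : Scheme.{u} := Y.left
  let h : Yl ⟶ X := Y.hom
  haveI : IsFinite h := Y.prop.1
  haveI : IsClosedImmersion (pullback.fst f j) := MorphismProperty.pullback_fst f _ ‹IsClosedImmersion j›
  haveI : IsClosedImmersion (pullback.fst h (pullback.fst f j)) := MorphismProperty.pullback_fst h _ inferInstance
  haveI : IsClosedImmersion (pullback.fst (h ≫ f) j) := MorphismProperty.pullback_fst _ _ ‹IsClosedImmersion j›
  have hP : ProperClopenLib.Lifts (pullback.fst h (pullback.fst f j)).base :=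
    (ProperClopenLib.lifts_fst (h ≫ f) I).congr_range
      (pullback.fst (h ≫ f) j).isEmbedding (pullback.fst h (pullback.fst f j)).isEmbedding (by
        show Set.range (pullback.fst (h ≫ f) j) = Set.range (pullback.fst h (pullback.fst f j))
        rw [Scheme.Pullback.range_fst, Scheme.Pullback.range_fst, Scheme.Pullback.range_fst,
          ← Set.preimage_comp]
        rfl)
  obtain ⟨C, ⟨hC, hCC⟩, hu⟩ := hP (C' : Set ↥(pullback h (pullback.fst f j))) C'.isClopen
  exact ⟨⟨C, hC⟩, hCC, fun C₂ hC₂ => SetLike.coe_injective (hu _ ⟨C₂.isClopen, hC₂⟩)⟩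

theorem isEquivalence {A : Type u} [CommRing A] (I : Ideal A) [HenselianRing A I] {X : Scheme.{u}}
    (f : X ⟶ Spec (CommRingCat.of A)) [IsProper f] :
    (FEt.restrict (pullback.fst f (Spec.map (CommRingCat.ofHom (Ideal.Quotient.mk I))))).IsEquivalence := by
  obtain ⟨_, _⟩ := ClopenFFLib.full_faithful _ (clopenBij I f)
  haveI : (FEt.restrict (pullback.fst f (Spec.map (CommRingCat.ofHom (Ideal.Quotient.mk I))))).EssSurj := ⟨fun V => by
    let Vl : Scheme.{u} := V.left
    let v : Vl ⟶ pullback f (Spec.map (CommRingCat.ofHom (Ideal.Quotient.mk I))) := V.hom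
    haveI : IsFinite v := V.prop.1
    haveI : Etale v := V.prop.2
    obtain ⟨U, u, q, hu, hu', hq⟩ := exists_lift I f v
    exact ⟨MorphismProperty.Over.mk ⊤ u ⟨hu, hu'⟩,
      ⟨MorphismProperty.Over.isoMk hq.isoPullback.symm hq.isoPullback_inv_snd⟩⟩⟩
  exact {}

end FEtProper

end
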