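import Groth.Agent.FEtProperLib.AlgClosed
import Groth.Agent.GeomIrrLib.Basic
import Groth.Agent.S0289

/-! # Extensions of separably closed fields -/

set_option autoImplicit false
set_option linter.style.haveILetI false
set_option maxHeartbeats 1000000

universe u

open CategoryTheory CategoryTheory.Limits AlgebraicGeometry

noncomputable section

namespace FEtProper

theorem isEquivalence_bc_sepClosed (k L : Type u) [Field k] [Field L] [Algebra k L] [IsSepClosed L]
    (M : Type u) [Field M] [Algebra L M] [Algebra k M] [IsScalarTower k L M] [Algebra.IsAlgebraic L M]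
    {X : Scheme.{u}} (f : X ⟶ Spec (CommRingCat.of k)) :
    (FEt.restrict (bc f (IsScalarTower.toAlgHom k L M))).IsEquivalence := by
  let s := Spec.map (CommRingCat.ofHom (algebraMap L M))
  haveI : IsPurelyInseparable L M := inferInstance
  haveI : IsIntegralHom s := IsIntegralHom.SpecMap_iff.2 (algebraMap_isIntegral_iff.2 inferInstance)
  haveI : UniversallyInjective s := GeomIrrLib.universallyInjective_specMap _ _
  haveI : Surjective s := ⟨fun x => ⟨(⟨⊥, Ideal.isPrime_bot⟩ : PrimeSpectrum M),
    @Subsingleton.elim (PrimeSpectrum L) _ _ _⟩⟩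
  have hb : IsPullback (bc f (IsScalarTower.toAlgHom k L M)) (pullback.snd f (spR k M)) (pullback.snd f (spR k L)) s :=
    isPullback_bc f (IsScalarTower.toAlgHom k L M)
  haveI : IsIntegralHom (bc f (IsScalarTower.toAlgHom k L M)) := MorphismProperty.of_isPullback hb.flip ‹IsIntegralHom s›
  haveI : UniversallyInjective (bc f (IsScalarTower.toAlgHom k L M)) :=
    MorphismProperty.of_isPullback hb.flip ‹UniversallyInjective s›
  haveI : Surjective (bc f (IsScalarTower.toAlgHom k L M)) := MorphismProperty.of_isPullback hb.flip ‹Surjective s›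
  exact Groth.Agent.S0289.result _

theorem isEquivalence_fst_comp {k : Type u} [Field k] {X : Scheme.{u}} (f : X ⟶ Spec (CommRingCat.of k))
    (L M : Type u) [Field L] [Field M] [Algebra k L] [Algebra k M] (φ : L →ₐ[k] M)
    [(FEt.restrict (bc f φ)).IsEquivalence] :
    (FEt.restrict (pullback.fst f (spR k L))).IsEquivalence ↔ (FEt.restrict (pullback.fst f (spR k M))).IsEquivalence := by
  let e : FEt.restrict (pullback.fst f (spR k L)) ⋙ FEt.restrict (bc f φ) ≅ FEt.restrict (pullback.fst f (spR k M)) :=
    (MorphismProperty.Over.pullbackComp (P := FEt.prop.{u}) (Q := ⊤) (bc f φ) (pullback.fst f (spR k L))).symm ≪≫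
      eqToIso (congrArg FEt.restrict (bc_fst f φ))
  constructor
  · intro h
    haveI : (FEt.restrict (pullback.fst f (spR k L)) ⋙ FEt.restrict (bc f φ)).IsEquivalence := Functor.isEquivalence_trans _ _
    exact Functor.isEquivalence_of_iso e
  · intro h
    haveI : (FEt.restrict (pullback.fst f (spR k L)) ⋙ FEt.restrict (bc f φ)).IsEquivalence := Functor.isEquivalence_of_iso e.symm
    exact Functor.isEquivalence_of_comp_right _ (FEt.restrict (bc f φ))

theorem isEquivalence_sepClosed (k K : Type u) [Field k] [Field K] [IsSepClosed k] [IsSepClosed K] [Algebra k K]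
    {X : Scheme.{u}} (f : X ⟶ Spec (CommRingCat.of k)) [IsProper f] :
    (FEt.restrict (pullback.fst f (spR k K))).IsEquivalence := by
  let kb := AlgebraicClosure k
  let Kb := AlgebraicClosure K
  letI : Algebra kb Kb := ((IsAlgClosed.lift (R := k) (S := kb) (M := Kb)) : kb →ₐ[k] Kb).toRingHom.toAlgebra
  haveI : IsScalarTower k kb Kb := IsScalarTower.of_algebraMap_eq fun x =>
    ((IsAlgClosed.lift (R := k) (S := kb) (M := Kb)).commutes x).symm
  haveI := isEquivalence_bc_sepClosed k K Kb f
  refine (isEquivalence_fst_comp f K Kb (IsScalarTower.toAlgHom k K Kb)).2 ?_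
  let fb := pullback.snd f (spR k kb)
  haveI : IsProper fb := MorphismProperty.pullback_snd _ _ ‹IsProper f›
  have hs : spR kb Kb ≫ spR k kb = spR k Kb := spec_comp (IsScalarTower.toAlgHom k kb Kb)
  have hp : IsPullback (pullback.fst fb (spR kb Kb) ≫ pullback.fst f (spR k kb)) (pullback.snd fb (spR kb Kb)) f (spR k Kb) := by
    rw [← hs]
    exact (IsPullback.of_hasPullback fb _).paste_horiz (IsPullback.of_hasPullback f _)
  have hbc : hp.isoPullback.hom ≫ bc f (IsScalarTower.toAlgHom k kb Kb) = pullback.fst fb (spR kb Kb) := by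
    apply pullback.hom_ext
    · rw [Category.assoc, bc_fst, hp.isoPullback_hom_fst]
    · rw [Category.assoc, bc_snd, ← Category.assoc, hp.isoPullback_hom_snd]
      exact pullback.condition.symm
  haveI := isEquivalence_algClosed kb Kb fb
  haveI : (FEt.restrict hp.isoPullback.hom).IsEquivalence := Groth.Agent.S0289.result _
  haveI : (FEt.restrict (bc f (IsScalarTower.toAlgHom k kb Kb)) ⋙ FEt.restrict hp.isoPullback.hom).IsEquivalence :=
    Functor.isEquivalence_of_iso ((MorphismProperty.Over.pullbackComp (P := FEt.prop.{u}) (Q := ⊤) hp.isoPullback.hom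
      (bc f (IsScalarTower.toAlgHom k kb Kb))).symm ≪≫ eqToIso (congrArg FEt.restrict hbc)).symm
  haveI := Functor.isEquivalence_of_comp_right (FEt.restrict (bc f (IsScalarTower.toAlgHom k kb Kb)))
    (FEt.restrict hp.isoPullback.hom)
  refine (isEquivalence_fst_comp f kb Kb (IsScalarTower.toAlgHom k kb Kb)).1 ?_
  let kk := Spec.map (CommRingCat.ofHom (algebraMap k kb))
  haveI : IsPurelyInseparable k kb := inferInstance
  haveI : IsIntegralHom kk := IsIntegralHom.SpecMap_iff.2 (algebraMap_isIntegral_iff.2 inferInstance)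
  haveI : UniversallyInjective kk := GeomIrrLib.universallyInjective_specMap _ _
  haveI : Surjective kk := ⟨fun x => ⟨(⟨⊥, Ideal.isPrime_bot⟩ : PrimeSpectrum kb),
    @Subsingleton.elim (PrimeSpectrum k) _ _ _⟩⟩
  haveI : IsIntegralHom (pullback.fst f (spR k kb)) := MorphismProperty.pullback_fst _ _ ‹IsIntegralHom kk›
  haveI : UniversallyInjective (pullback.fst f (spR k kb)) := MorphismProperty.pullback_fst _ _ ‹UniversallyInjective kk›
  haveI : Surjective (pullback.fst f (spR k kb)) := MorphismProperty.pullback_fst _ _ ‹Surjective kk›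
  exact Groth.Agent.S0289.result _

end FEtProper

end
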