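import Groth.Agent.FEtProperLib.Main
import Groth.Agent.ClopenFFLib.Topo
import Groth.Agent.SweepSix.GeomConn
import Groth.Agent.S0254

/-! # Invariance of finite étale covers of proper schemes under extensions of algebraically closed fields -/

set_option autoImplicit false
set_option linter.style.haveILetI false
set_option maxHeartbeats 1000000

universe u

open CategoryTheory CategoryTheory.Limits AlgebraicGeometry

noncomputable section

namespace FEtProper

theorem isFractionRing_valuationSubring {K : Type u} [Field K] (O : ValuationSubring K) : IsFractionRing O K :=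
  inferInstance

theorem clopenBij_algClosed (k k' : Type u) [Field k] [Field k'] [IsAlgClosed k] [Algebra k k'] {X : Scheme.{u}}
    (f : X ⟶ Spec (CommRingCat.of k)) : ClopenFFLib.ClopenBij (pullback.fst f (spR k k')) := by
  intro Y C'
  let s := spR k k'
  haveI : Surjective s := ⟨fun p => ⟨Classical.arbitrary (PrimeSpectrum k'), Subsingleton.elim (α := PrimeSpectrum k) _ _⟩⟩
  haveI : Flat s := HasRingHomProperty.Spec_iff.2 (RingHom.flat_algebraMap_iff.2 inferInstance)
  haveI : QuasiCompact s := inferInstance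
  haveI : GeometricallyConnected s := SweepSix.GeomConn.gc_of_isAlgClosed s
  let q := pullback.fst f s
  haveI : Surjective q := MorphismProperty.pullback_fst _ _ ‹Surjective s›
  haveI : Flat q := MorphismProperty.pullback_fst _ _ ‹Flat s›
  haveI : QuasiCompact q := MorphismProperty.pullback_fst _ _ ‹QuasiCompact s›
  have hgc : GeometricallyConnected q := MorphismProperty.pullback_fst _ _ ‹GeometricallyConnected s›
  let g := pullback.fst Y.hom q
  haveI : Surjective g := MorphismProperty.pullback_fst _ _ ‹Surjective q›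
  haveI : Flat g := MorphismProperty.pullback_fst _ _ ‹Flat q›
  haveI : QuasiCompact g := MorphismProperty.pullback_fst _ _ ‹QuasiCompact q›
  have hg : GeometricallyConnected g := MorphismProperty.pullback_fst _ _ hgc
  exact ClopenFFLib.existsUnique_clopen_of_quotientMap g.base (Flat.isQuotientMap_of_surjective g)
    (fun y => ((@Scheme.Hom.isConnected_preimage_singleton _ _ g hg y)).isPreconnected) C'

theorem clopenBij_bc (O : Type u) [CommRing O] (I : Ideal O) [HenselianRing O I] {P : Type u} [CommRing P] [Algebra P O]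
    {X : Scheme.{u}} (f : X ⟶ Spec (CommRingCat.of P)) [IsProper f] :
    ClopenFFLib.ClopenBij (bc f (Ideal.Quotient.mkₐ P I)) := by
  intro Y C'
  let f' := pullback.snd f (spR P O)
  haveI : IsProper f' := MorphismProperty.pullback_snd _ _ ‹IsProper f›
  let j : Spec (CommRingCat.of (O ⧸ I)) ⟶ Spec (CommRingCat.of O) := Spec.map (CommRingCat.ofHom (Ideal.Quotient.mk I))
  haveI : IsClosedImmersion j := IsClosedImmersion.spec_of_surjective _ Ideal.Quotient.mk_surjective
  let Yl : Scheme.{u} := Y.left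
  let h : Yl ⟶ pullback f (spR P O) := Y.hom
  haveI : IsFinite h := Y.prop.1
  have hb : IsPullback (bc f (Ideal.Quotient.mkₐ P I)) (pullback.snd f (spR P (O ⧸ I))) f' j :=
    isPullback_bc f (Ideal.Quotient.mkₐ P I)
  haveI : IsClosedImmersion (bc f (Ideal.Quotient.mkₐ P I)) := MorphismProperty.of_isPullback hb.flip ‹IsClosedImmersion j›
  haveI : IsClosedImmersion (pullback.fst h (bc f (Ideal.Quotient.mkₐ P I))) := MorphismProperty.pullback_fst h _ inferInstance
  haveI : IsClosedImmersion (pullback.fst (h ≫ f') j) := MorphismProperty.pullback_fst _ _ ‹IsClosedImmersion j›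
  have hP : ProperClopenLib.Lifts (pullback.fst h (bc f (Ideal.Quotient.mkₐ P I))).base :=
    (ProperClopenLib.lifts_fst (h ≫ f') I).congr_range
      (pullback.fst (h ≫ f') j).isEmbedding (pullback.fst h (bc f (Ideal.Quotient.mkₐ P I))).isEmbedding (by
        show Set.range (pullback.fst (h ≫ f') j) = Set.range (pullback.fst h (bc f (Ideal.Quotient.mkₐ P I)))
        rw [Scheme.Pullback.range_fst, Scheme.Pullback.range_fst]
        ext y
        constructor
        · rintro ⟨z, hz⟩
          obtain ⟨p, hp, -⟩ := Scheme.exists_preimage_of_isPullback hb (h y) z hz.symm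
          exact ⟨p, hp⟩
        · rintro ⟨p, hp⟩
          exact ⟨pullback.snd f (spR P (O ⧸ I)) p, ((congrArg (fun z => z p) hb.w.symm).trans (congrArg f' hp))⟩)
  obtain ⟨C, ⟨hC, hCC⟩, hu⟩ := hP (C' : Set ↥(pullback h (bc f (Ideal.Quotient.mkₐ P I)))) C'.isClopen
  exact ⟨⟨C, hC⟩, hCC, fun C₂ hC₂ => SetLike.coe_injective (hu _ ⟨C₂.isClopen, hC₂⟩)⟩

theorem iso_of_pb_closed (O : Type u) [CommRing O] (I : Ideal O) [HenselianRing O I] {P : Type u} [CommRing P] [Algebra P O]
    {X : Scheme.{u}} (f : X ⟶ Spec (CommRingCat.of P)) [IsProper f] {U U' W W' : Scheme.{u}}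
    (u : U ⟶ pullback f (spR P O)) [IsFinite u] [Etale u] (u' : U' ⟶ pullback f (spR P O)) [IsFinite u'] [Etale u']
    {x : W ⟶ pullback f (spR P (O ⧸ I))} {x' : W' ⟶ pullback f (spR P (O ⧸ I))}
    (h : Pb f (Ideal.Quotient.mkₐ P I) u x) (h' : Pb f (Ideal.Quotient.mkₐ P I) u' x')
    (e : W ≅ W') (he : e.hom ≫ x' = x) : ∃ a : U ≅ U', a.hom ≫ u' = u := by
  let b := bc f (Ideal.Quotient.mkₐ P I)
  obtain ⟨_, _⟩ := ClopenFFLib.full_faithful b (clopenBij_bc O I f)
  let A : FEt.Cat (pullback f (spR P O)) := MorphismProperty.Over.mk ⊤ u ⟨inferInstance, inferInstance⟩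
  let A' : FEt.Cat (pullback f (spR P O)) := MorphismProperty.Over.mk ⊤ u' ⟨inferInstance, inferInstance⟩
  obtain ⟨q, hq⟩ := h
  obtain ⟨q', hq'⟩ := h'
  let e' : (FEt.restrict b).obj A ≅ (FEt.restrict b).obj A' :=
    MorphismProperty.Over.isoMk (hq.isoPullback.symm ≪≫ e ≪≫ hq'.isoPullback) (by
      show (hq.isoPullback.inv ≫ e.hom ≫ hq'.isoPullback.hom) ≫ pullback.snd u' b = pullback.snd u b
      rw [Category.assoc, Category.assoc, hq'.isoPullback_hom_snd, he, hq.isoPullback_inv_snd])
  let a := (FEt.restrict b).preimageIso e'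
  exact ⟨(MorphismProperty.Over.forget FEt.prop ⊤ _ ⋙ CategoryTheory.Over.forget _).mapIso a,
    MorphismProperty.Over.w a.hom⟩

theorem isEquivalence_algClosed (k k' : Type u) [Field k] [Field k'] [IsAlgClosed k] [IsAlgClosed k'] [Algebra k k']
    {X : Scheme.{u}} (f : X ⟶ Spec (CommRingCat.of k)) [IsProper f] :
    (FEt.restrict (pullback.fst f (spR k k'))).IsEquivalence := by
  obtain ⟨_, _⟩ := ClopenFFLib.full_faithful _ (clopenBij_algClosed k k' f)
  haveI : (FEt.restrict (pullback.fst f (spR k k'))).EssSurj := ⟨fun V => by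
    let Vl : Scheme.{u} := V.left
    let v : Vl ⟶ pullback f (spR k k') := V.hom
    haveI : IsFinite v := V.prop.1
    haveI : Etale v := V.prop.2
    obtain ⟨B, hB, W, w, _, _, hw⟩ := exists_fg_model (f := f) k' v
    haveI : Algebra.FiniteType k B := ⟨(Subalgebra.fg_top _).2 hB⟩
    obtain ⟨m, hm⟩ := Ideal.exists_maximal B
    haveI := hm
    haveI : Module.Finite k (B ⧸ m) := by
      letI := Ideal.Quotient.field m
      exact finite_of_finite_type_of_isJacobsonRing k (B ⧸ m)
    haveI : Algebra.IsIntegral k (B ⧸ m) := Algebra.IsIntegral.of_finite k _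
    have hbij : Function.Bijective (algebraMap k (B ⧸ m)) :=
      IsAlgClosed.algebraMap_bijective_of_isIntegral
    let σ : B →ₐ[k] k := (AlgEquiv.ofBijective (Algebra.ofId k (B ⧸ m)) hbij).symm.toAlgHom.comp (Ideal.Quotient.mkₐ k m)
    have hσ : ∀ b : B, b - algebraMap k B (σ b) ∈ m := fun b => by
      rw [← Ideal.Quotient.eq]
      exact ((AlgEquiv.ofBijective (Algebra.ofId k (B ⧸ m)) hbij).apply_symm_apply (Ideal.Quotient.mk m b)).symm
    let Bs : Subring k' := B.toSubring
    obtain ⟨O, hBO, hmO⟩ := Ideal.image_subset_nonunits_valuationSubring (K := k') (A := Bs) m hm.ne_top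
    let Oa : Subalgebra k k' := { O.toSubring with algebraMap_mem' := fun c => hBO (B.algebraMap_mem c) }
    haveI : ValuationRing Oa := inferInstanceAs (ValuationRing O)
    haveI : IsLocalRing Oa := inferInstanceAs (IsLocalRing O)
    haveI : IsIntegrallyClosed Oa := inferInstanceAs (IsIntegrallyClosed O)
    haveI : IsSepClosed (FractionRing Oa) := by
      haveI : IsFractionRing Oa k' := isFractionRing_valuationSubring O
      haveI : IsAlgClosed (FractionRing Oa) := IsAlgClosed.of_ringEquiv k' _ (FractionRing.algEquiv Oa k').symm.toRingEquiv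
      infer_instance
    haveI := (Groth.Agent.S0254.result Oa).1
    let β : B →ₐ[k] Oa := Subalgebra.inclusion fun b hb => hBO hb
    have hκ : ∀ b : B, ((Ideal.Quotient.mkₐ k (IsLocalRing.maximalIdeal Oa)).comp β) b =
        ((Ideal.Quotient.mkₐ k (IsLocalRing.maximalIdeal Oa)).comp ((Algebra.ofId k Oa).comp σ)) b := fun b => by
      refine Ideal.Quotient.eq.2 ?_
      have h1 : ((β (b - algebraMap k B (σ b)) : Oa) : k') ∈ O.nonunits := hmO ⟨_, hσ b, rfl⟩
      obtain ⟨ha, ha'⟩ := (ValuationSubring.mem_nonunits_iff_exists_mem_maximalIdeal (A := O)).1 h1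
      have h2 : β (b - algebraMap k B (σ b)) ∈ IsLocalRing.maximalIdeal Oa := ha'
      rwa [map_sub, AlgHom.commutes] at h2
    obtain ⟨Ws, ws, hws⟩ := Pb.exists_pb (f := f) σ w
    obtain ⟨U₁, u₁, hu₁⟩ := Pb.exists_pb (f := f) β w
    obtain ⟨U₂, u₂, hu₂⟩ := Pb.exists_pb (f := f) (Algebra.ofId k Oa) ws
    obtain ⟨Z₁, x₁, hx₁⟩ := Pb.exists_pb (f := f) (Ideal.Quotient.mkₐ k (IsLocalRing.maximalIdeal Oa)) u₁
    obtain ⟨Z₂, x₂, hx₂⟩ := Pb.exists_pb (f := f) (Ideal.Quotient.mkₐ k (IsLocalRing.maximalIdeal Oa)) u₂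
    haveI := hws.isFinite; haveI := hws.etale
    haveI := hu₁.isFinite; haveI := hu₁.etale; haveI := hu₂.isFinite; haveI := hu₂.etale
    obtain ⟨q₁, hq₁⟩ := (hu₁.comp hx₁).congr hκ
    obtain ⟨q₂, hq₂⟩ := (hws.comp hu₂).comp hx₂
    obtain ⟨a, ha⟩ := iso_of_pb_closed Oa (IsLocalRing.maximalIdeal Oa) f u₁ u₂ hx₁ hx₂
      (hq₁.isoIsPullback _ _ hq₂) (hq₁.isoIsPullback_hom_snd _ _ hq₂)
    obtain ⟨q, hq⟩ := Pb.cancel hu₁ (hw.congr (φ' := Oa.val.comp β) fun b => rfl)
    have hv : Pb f Oa.val u₂ v := ⟨q ≫ a.hom, hq.of_iso (Iso.refl _) a (Iso.refl _) (Iso.refl _) (by simp) (by simp)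
      (by simp [ha]) (by simp)⟩
    obtain ⟨q', hq'⟩ := (hu₂.comp hv).congr (φ' := Algebra.ofId k k') fun c => (Oa.val.comp (Algebra.ofId k Oa)).commutes c
    let π := pullback.fst f (spR k k)
    haveI : IsIso (spR k k) := by
      rw [show spR k k = 𝟙 _ from Spec.map_id _]
      infer_instance
    haveI : IsIso π := inferInstance
    haveI : IsFinite (ws ≫ π) := inferInstance
    haveI : Etale (ws ≫ π) := inferInstance
    have hsq : IsPullback q' v (ws ≫ π) (pullback.fst f (spR k k')) :=
      hq'.of_iso (Iso.refl _) (Iso.refl _) (Iso.refl _) (asIso π) (by simp) (by simp) (by simp [π])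
        (by simp [π, bc_fst])
    exact ⟨MorphismProperty.Over.mk ⊤ (ws ≫ π) ⟨inferInstance, inferInstance⟩,
      ⟨MorphismProperty.Over.isoMk hsq.isoPullback.symm hsq.isoPullback_inv_snd⟩⟩⟩
  exact {}

end FEtProper

end
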