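import Groth.Agent.FEtProperLib.Pb
import Groth.Agent.PiSepLib.EssSurj
import Groth.Agent.AdicRingLib.Completion
import Groth.Agent.S0595
import Groth.Agent.S0600
import Groth.Agent.S0536

/-! # Lifting covers over henselian pairs by Popescu approximation -/

set_option autoImplicit false
set_option linter.style.haveILetI false
set_option maxHeartbeats 1000000

universe u

open CategoryTheory CategoryTheory.Limits AlgebraicGeometry

noncomputable section

namespace FEtProper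

theorem exists_lift_complete {P : Type u} [CommRing P] {X : Scheme.{u}} (f : X ⟶ Spec (CommRingCat.of P)) [IsProper f]
    (R : Type u) [CommRing R] [Algebra P R] [IsNoetherianRing R] (I : Ideal R) [IsAdicComplete I R]
    {V : Scheme.{u}} (v : V ⟶ pullback f (spR P (R ⧸ I ^ (0 + 1)))) [IsFinite v] [Etale v] :
    ∃ (W : Scheme.{u}) (w : W ⟶ pullback f (spR P R)),
      IsFinite w ∧ Etale w ∧ Pb f (Ideal.Quotient.mkₐ P (I ^ (0 + 1))) w v := by
  let f' := pullback.snd f (spR P R)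
  haveI : IsProper f' := MorphismProperty.pullback_snd _ _ ‹IsProper f›
  have hs : CohB1.specQuot I 0 ≫ spR P R = spR P (R ⧸ I ^ (0 + 1)) := spec_comp (Ideal.Quotient.mkₐ P (I ^ (0 + 1)))
  have hp : IsPullback (CohB1.thickι f' I 0 ≫ pullback.fst f (spR P R)) (CohB1.thickToBase f' I 0) f
      (spR P (R ⧸ I ^ (0 + 1))) := by
    rw [← hs]
    exact (IsPullback.of_hasPullback f' (CohB1.specQuot I 0)).paste_horiz (IsPullback.of_hasPullback f (spR P R))
  let c := hp.isoPullback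
  have hc : c.hom ≫ bc f (Ideal.Quotient.mkₐ P (I ^ (0 + 1))) = CohB1.thickι f' I 0 := by
    apply pullback.hom_ext
    · rw [Category.assoc, bc_fst, hp.isoPullback_hom_fst]
    · rw [Category.assoc, bc_snd, ← Category.assoc, hp.isoPullback_hom_snd]
      exact pullback.condition.symm
  let V' : FEt.Cat (CohB1.thick f' I 0) :=
    MorphismProperty.Over.mk ⊤ (v ≫ c.inv) ⟨(inferInstance : IsFinite (v ≫ c.inv)), (inferInstance : Etale (v ≫ c.inv))⟩
  haveI := PiSep.essSurj_thick I f'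
  let W := (FEt.restrict (CohB1.thickι f' I 0)).objPreimage V'
  let eW := (FEt.restrict (CohB1.thickι f' I 0)).objObjPreimageIso V'
  let Wl : Scheme.{u} := W.left
  let w : Wl ⟶ pullback f (spR P R) := W.hom
  let el : pullback w (CohB1.thickι f' I 0) ≅ V :=
    (MorphismProperty.Over.forget FEt.prop ⊤ _ ⋙ CategoryTheory.Over.forget _).mapIso eW
  have hel : el.inv ≫ pullback.snd w (CohB1.thickι f' I 0) = v ≫ c.inv := MorphismProperty.Over.w eW.inv
  have h1 : IsPullback (el.inv ≫ pullback.fst w (CohB1.thickι f' I 0)) (v ≫ c.inv) w (CohB1.thickι f' I 0) := by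
    refine IsPullback.of_iso_pullback ⟨?_⟩ el.symm rfl hel
    rw [← hel, Category.assoc, Category.assoc, pullback.condition]
  exact ⟨Wl, w, W.prop.1, W.prop.2, el.inv ≫ pullback.fst w (CohB1.thickι f' I 0), h1.of_iso (Iso.refl _) (Iso.refl _) c (Iso.refl _) (by simp) (by simp) (by simp)
    (by simp [hc])⟩

theorem exists_lift_of_gRing {P : Type u} [CommRing P] {X : Scheme.{u}} (f : X ⟶ Spec (CommRingCat.of P)) [IsProper f]
    (Q : Type u) [CommRing Q] [Algebra P Q] (hQ : CAlg.IsGRing Q) (J : Ideal Q)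
    (A : Type u) [CommRing A] [Algebra P A] [Algebra Q A] [IsScalarTower P Q A] (I : Ideal A) [HenselianRing A I]
    (ψ : Q ⧸ J →ₐ[Q] A ⧸ I) {V : Scheme.{u}} (v : V ⟶ pullback f (spR P (Q ⧸ J))) [IsFinite v] [Etale v] :
    ∃ (U X₀ : Scheme.{u}) (u : U ⟶ pullback f (spR P A)) (x : X₀ ⟶ pullback f (spR P (A ⧸ I))),
      IsFinite u ∧ Etale u ∧ Pb f (Ideal.Quotient.mkₐ P I) u x ∧ Pb f (ψ.restrictScalars P) v x := by
  haveI : IsNoetherianRing Q := hQ.1
  let R := AdicCompletion J Q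
  haveI : IsNoetherianRing R := AdicRingLib.isNoetherianRing_adicCompletion J
  let I' : Ideal R := J.map (algebraMap Q R)
  haveI : IsAdicComplete I' R :=
    (IsAdicComplete.map_algebraMap_iff _ _).mpr (AdicCompletion.isAdicComplete (IsNoetherian.noetherian J))
  have hρ : J ≤ RingHom.ker ((Ideal.Quotient.mkₐ Q (I' ^ (0 + 1))).comp (Algebra.ofId Q R)) := fun a ha => by
    rw [RingHom.mem_ker]
    refine Ideal.Quotient.eq_zero_iff_mem.2 ?_
    rw [zero_add, pow_one]
    exact Ideal.mem_map_of_mem _ ha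
  let ρ : Q ⧸ J →ₐ[Q] R ⧸ I' ^ (0 + 1) := Ideal.Quotient.liftₐ J _ fun a ha => RingHom.mem_ker.1 (hρ ha)
  have hε : ∀ a ∈ I' ^ (0 + 1), AdicCompletion.evalOneₐ J a = 0 := by
    intro a ha
    rw [zero_add, pow_one] at ha
    refine (Ideal.map_le_iff_le_comap (K := RingHom.ker (AdicCompletion.evalOneₐ J))).2 (fun b hb => ?_) ha
    rw [Ideal.mem_comap, RingHom.mem_ker, AlgHom.commutes]
    exact Ideal.Quotient.eq_zero_iff_mem.2 hb
  let ε : R ⧸ I' ^ (0 + 1) →ₐ[Q] Q ⧸ J := Ideal.Quotient.liftₐ _ (AdicCompletion.evalOneₐ J) hε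
  obtain ⟨V', v', hv'⟩ := Pb.exists_pb (f := f) (ρ.restrictScalars P) v
  haveI := hv'.isFinite
  haveI := hv'.etale
  obtain ⟨W, w, _, _, hw⟩ := exists_lift_complete f R I' v'
  obtain ⟨D₀, hD₀, W₀, w₀, _, _, hw₀⟩ := exists_fg_model R w
  obtain ⟨s, hs⟩ := hD₀
  let D : Subalgebra Q R := Algebra.adjoin Q (s : Set R)
  haveI : Algebra.FinitePresentation Q D :=
    (Algebra.FinitePresentation.of_finiteType).1 ⟨(Subalgebra.fg_top _).2 ⟨s, rfl⟩⟩
  have hle : D₀ ≤ D.restrictScalars P := hs ▸ Algebra.adjoin_le fun a ha => Algebra.subset_adjoin ha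
  obtain ⟨C, _, _, hC, g, h, hgh⟩ := Groth.Agent.S0595.result Q R
    (Groth.Agent.S0600.result Q hQ J) D D.val
  letI : Algebra P C := ((algebraMap Q C).comp (algebraMap P Q)).toAlgebra
  haveI : IsScalarTower P Q C := IsScalarTower.of_algebraMap_eq fun _ => rfl
  haveI := hC
  let δ : D₀ →ₐ[P] D.restrictScalars P := Subalgebra.inclusion hle
  let δ' : D₀ →ₐ[P] C := (g.restrictScalars P).comp δ
  obtain ⟨WC, wC, hwC⟩ := Pb.exists_pb (f := f) δ' w₀
  haveI := hwC.isFinite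
  haveI := hwC.etale
  have hWC : Pb f (h.restrictScalars P) wC w :=
    hwC.cancel (hw₀.congr fun a => (AlgHom.congr_fun hgh (δ a)).symm)
  let χ : R ⧸ I' ^ (0 + 1) →ₐ[Q] A ⧸ I := ψ.comp ε
  obtain ⟨X₀, x, hx⟩ := Pb.exists_pb (f := f) (χ.restrictScalars P) v'
  obtain ⟨τ, hτ⟩ := Groth.Agent.S0536.result Q C A I ((χ.comp (Ideal.Quotient.mkₐ Q (I' ^ (0 + 1)))).comp h)
  obtain ⟨U, u, hu⟩ := Pb.exists_pb (f := f) (τ.restrictScalars P) wC
  refine ⟨U, X₀, u, x, hu.isFinite, hu.etale, ?_, ?_⟩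
  · exact hu.cancel (((hWC.comp hw).comp hx).congr fun a => (AlgHom.congr_fun hτ a).symm)
  · refine (hv'.comp hx).congr fun a => ?_
    obtain ⟨a, rfl⟩ := Ideal.Quotient.mk_surjective a
    show (χ.comp ρ) (algebraMap Q (Q ⧸ J) a) = ψ (algebraMap Q (Q ⧸ J) a)
    rw [AlgHom.commutes, AlgHom.commutes]

end FEtProper

end
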